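import Mathlib
import Cfsg.Prelude.Def_Characters
import Cfsg.Prelude.Def_Blocks
import Cfsg.Agent.Lib.Helper17.PM2.Defs
import Cfsg.Agent.Lib.Helper92.S4504.CIrr

/-!
# S4705-[RED-SYL] (helper93, for helper17's PM2 project)

`sylow_normalClosure`: in the normal closure `L` of a non-normal Sylow `p`-subgroup of order `p`,
every Sylow `p`-subgroup has order `p`, is not normal, and generates `L` as a normal subgroup.
-/

set_option autoImplicit false
open Cfsg Cfsg.Agent.Lib.Helper17.PM2
open scoped ComplexConjugate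
universe u

namespace Cfsg.Agent.Lib.Helper93.S4705

theorem sylow_normalClosure {G : Type u} [Group G] [Finite G] {p : ℕ} [Fact p.Prime]
    (P : Sylow p G) (hP : Nat.card P = p) (hnn : ¬ (P : Subgroup G).Normal) (L : Subgroup G)
    (hL : L = Subgroup.normalClosure ((P : Subgroup G) : Set G)) (Q : Sylow p L) :
    Nat.card Q = p ∧ ¬ (Q : Subgroup L).Normal ∧
      Subgroup.normalClosure ((Q : Subgroup L) : Set L) = ⊤ := by
  have hLn : L.Normal := hL ▸ Subgroup.normalClosure_normal
  have hPL : (P : Subgroup G) ≤ L := hL ▸ Subgroup.le_normalClosure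
  have hQcard : Nat.card Q = p := Cfsg.Agent.Lib.Helper92.S4504.cIrr_card_sylow P hP L hPL Q
  refine ⟨hQcard, ?_, Cfsg.Agent.Lib.Helper92.S4504.cIrr_normalClosure_eq_top P L hL Q⟩
  intro hQn
  apply hnn
  have hQchar : (Q : Subgroup L).Characteristic := Sylow.characteristic_of_normal Q hQn
  have hKn : ((Q : Subgroup L).map L.subtype).Normal := ConjAct.normal_of_characteristic_of_normal
  have hKcard : Nat.card ((Q : Subgroup L).map L.subtype) = p := by
    rw [Subgroup.card_map_of_injective (Subgroup.subtype_injective L)]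
    exact hQcard
  have hKp : IsPGroup p ((Q : Subgroup L).map L.subtype) :=
    IsPGroup.of_card (n := 1) (by rw [hKcard, pow_one])
  obtain ⟨P', hP'⟩ := hKp.exists_le_sylow
  have hP'card : Nat.card P' = p := by
    rw [Sylow.card_eq_multiplicity, ← Sylow.card_eq_multiplicity P, hP]
  have hKeq : (Q : Subgroup L).map L.subtype = (P' : Subgroup G) :=
    Subgroup.eq_of_le_of_card_ge hP' (by rw [hKcard]; exact hP'card.le)
  have hP'n : (P' : Subgroup G).Normal := hKeq ▸ hKn
  obtain ⟨g, hg⟩ := MulAction.exists_smul_eq G P' P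
  have : g • P' = P' := Sylow.smul_eq_of_normal
  rw [this] at hg
  rw [← hg]
  exact hP'n

end Cfsg.Agent.Lib.Helper93.S4705
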