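import Mathlib
import Cfsg.Prelude.Def_Characters
import Cfsg.Prelude.Def_Blocks
import Cfsg.Agent.Lib.Helper17.PM2.Defs
import Cfsg.Agent.Lib.Helper77.CenterIrr

/-!
# S4705-[ZODD] (helper93, for helper17's PM2 project)

`center_odd`: in the perfect setting the centre of `G` has odd order elements only:
`det ∘ ρ` is trivial, a central `z` acts by the scalar `θ(z)`, so `θ(z)^(p-2) = 1`, hence
`z^(p-2) = 1` by faithfulness, and `p - 2` is odd.
-/

set_option autoImplicit false
open Cfsg Cfsg.Agent.Lib.Helper17.PM2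
open scoped ComplexConjugate commutatorElement
universe u

namespace Cfsg.Agent.Lib.Helper93.S4705

open Cfsg.Agent.Lib.Helper77

variable {G : Type u} [Group G] [Fintype G] {p : ℕ}

theorem center_odd (S : Setting G p) : ∀ z ∈ Subgroup.center G, Odd (orderOf z) := by
  intro z hz
  set χ : IrrCharacter G := ⟨S.ζ, S.hζ⟩ with hχ
  have hχval : ∀ g, (χ : G → ℂ) g = S.ζ g := fun g => rfl
  -- the degree
  have hd : irrDim χ + 2 = p := by
    have h1 : (χ : G → ℂ) 1 = (irrDim χ : ℂ) := irr_apply_one χ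
    rw [hχval, S.hdeg] at h1
    have h2 : ((irrDim χ + 2 : ℕ) : ℂ) = (p : ℂ) := by
      push_cast
      rw [← h1]
      ring
    exact_mod_cast h2
  have hd0 : irrDim χ ≠ 0 := irrDim_ne_zero χ
  have hV : Module.finrank ℂ (Fin (irrDim χ) → ℂ) ≠ 0 := by
    rw [Module.finrank_fin_fun]
    exact hd0
  -- `z` lies in the centre of `χ`
  have hzc : z ∈ irrCenter χ := by
    rw [mem_irrCenter_iff_commutator]
    intro h
    have : ⁅z, h⁆ = 1 := by
      rw [commutatorElement_def, (Subgroup.mem_center_iff.1 hz h).symm]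
      group
    rw [this]
    exact Subgroup.one_mem _
  set ω : ℂ := centerScalar (irrRep χ) hV ⟨z, hzc⟩ with hω
  have hρz : irrRep χ z = ω • (LinearMap.id : (Fin (irrDim χ) → ℂ) →ₗ[ℂ] (Fin (irrDim χ) → ℂ)) :=
    apply_eq_centerScalar_smul (irrRep χ) hV ⟨z, hzc⟩
  -- the determinant is trivial on the perfect group `G`
  let φ : G →* ℂ := (LinearMap.det : ((Fin (irrDim χ) → ℂ) →ₗ[ℂ] (Fin (irrDim χ) → ℂ)) →* ℂ).comp
    (irrRep χ)
  have hφ : φ z = 1 := by
    have h1 : commutator G ≤ φ.toHomUnits.ker := Abelianization.commutator_subset_ker _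
    rw [S.hperf] at h1
    have h2 : φ.toHomUnits z = 1 := MonoidHom.mem_ker.1 (h1 (Subgroup.mem_top z))
    have h3 : ((φ.toHomUnits z : ℂˣ) : ℂ) = φ z := MonoidHom.coe_toHomUnits φ z
    rw [← h3, h2, Units.val_one]
  have hωd : ω ^ irrDim χ = 1 := by
    have : φ z = ω ^ irrDim χ := by
      show LinearMap.det (irrRep χ z) = _
      rw [hρz, LinearMap.det_smul, LinearMap.det_id, mul_one, Module.finrank_fin_fun]
    rw [← this, hφ]
  -- `z ^ d` is in the kernel
  have hker : irrRep χ (z ^ irrDim χ) = 1 := by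
    rw [map_pow, hρz]
    have : ∀ j : ℕ, ((ω • (LinearMap.id : (Fin (irrDim χ) → ℂ) →ₗ[ℂ] (Fin (irrDim χ) → ℂ))) ^ j) =
        (ω ^ j) • (LinearMap.id : (Fin (irrDim χ) → ℂ) →ₗ[ℂ] (Fin (irrDim χ) → ℂ)) := by
      intro j
      induction j with
      | zero => simp; rfl
      | succ j ih =>
        rw [pow_succ, ih, pow_succ]
        apply LinearMap.ext
        intro w
        simp [Module.End.mul_apply, mul_smul]
        exact smul_comm _ _ _
    rw [this, hωd, one_smul]
    rfl
  have hzd : z ^ irrDim χ = 1 := by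
    apply S.hfaith
    have h1 : z ^ irrDim χ ∈ irrKer χ := MonoidHom.mem_ker.2 hker
    exact (mem_irrKer χ _).1 h1
  have hdvd : orderOf z ∣ irrDim χ := orderOf_dvd_of_pow_eq_one hzd
  have hpodd : Odd p := S.hp.odd_of_ne_two (by have := S.h5; omega)
  have hdodd : Odd (irrDim χ) := by
    rcases hpodd with ⟨m, hm⟩
    exact ⟨m - 1, by have := S.h5; omega⟩
  exact Odd.of_dvd_nat hdodd hdvd

end Cfsg.Agent.Lib.Helper93.S4705
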